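import Cfsg.Agent.Techniques.DihedralEight.Four
import Cfsg.Agent.InvChar.DihedralEightCentralizer
import Cfsg.Agent.Lib.Involutions.Isolated
import Cfsg.Agent.S0215
import Cfsg.Agent.S0255
import Cfsg.Agent.S0495
import Cfsg.Agent.S0497
import Cfsg.Agent.S3278

/-!
Groups with an involution whose centralizer is dihedral of order eight.
-/

set_option autoImplicit false

namespace Cfsg.Agent.Techniques.DihedralEight.Main

open Subgroup
open scoped commutatorElement

theorem d4_square : ∃ u : DihedralGroup 4, u * u = .r 2 := ⟨.r 1, by decide⟩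
theorem d4_conj : ∀ t : DihedralGroup 4, t * t = 1 → t ≠ 1 → t ≠ .r 2 → ∃ s, s * t * s⁻¹ = .r 2 * t := by decide
theorem d4_center : ∀ z : DihedralGroup 4, (∀ x, z * x = x * z) → z = 1 ∨ z = .r 2 := by decide

variable {G : Type*} [Group G] [Finite G]

theorem normalCore_inf_le (H W : Subgroup G) : H.normalCore ⊓ W ≤ H := inf_le_left.trans H.normalCore_le

theorem equiv_perm {H : Subgroup G} {n : ℕ} (hidx : H.index = n) (hcard : Nat.card G = n.factorial)
    (hcore : H.normalCore = ⊥) : Nonempty (G ≃* Equiv.Perm (Fin n)) := by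
  classical
  haveI := Fintype.ofFinite (G ⧸ H)
  have hq : Nat.card (G ⧸ H) = n := by rw [← Subgroup.index_eq_card, hidx]
  let φ : G →* Equiv.Perm (G ⧸ H) := MulAction.toPermHom G (G ⧸ H)
  have hinj : Function.Injective φ := by
    rw [← MonoidHom.ker_eq_bot_iff, ← hcore, Subgroup.normalCore_eq_ker]
  have hbij : Function.Bijective φ := by
    refine (Nat.bijective_iff_injective_and_card φ).2 ⟨hinj, ?_⟩
    rw [Nat.card_perm, hq, hcard]
  exact ⟨(MulEquiv.ofBijective φ hbij).trans (Equiv.permCongrHom (Finite.equivFinOfCardEq hq))⟩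

theorem main (z : G) (hz : orderOf z = 2)
    (hC : Nonempty (↥(Subgroup.centralizer ({z} : Set G)) ≃* DihedralGroup 4)) :
    Subgroup.centralizer ({z} : Set G) ⊔ Cfsg.oddCore G = ⊤ ∨ Nonempty (G ≃* Equiv.Perm (Fin 4)) ∨
      Nonempty (G ≃* Equiv.Perm (Fin 5)) ∨ Nonempty (G ≃* Matrix.SpecialLinearGroup (Fin 3) (ZMod 2)) ∨
      Nonempty (G ≃* ↥(alternatingGroup (Fin 6))) := by
  classical
  haveI : Fact (Nat.Prime 2) := ⟨Nat.prime_two⟩
  obtain ⟨e⟩ := hC
  set C := centralizer ({z} : Set G) with hCdef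
  have hC8 : Nat.card C = 8 := by rw [Nat.card_congr e.toEquiv, DihedralGroup.nat_card]
  have hzC : z ∈ C := mem_centralizer_singleton_iff.2 rfl
  have hz1 : z ≠ 1 := fun h => by rw [h, orderOf_one] at hz; omega
  have hzcom : ∀ x ∈ C, x * z = z * x := fun x hx => mem_centralizer_singleton_iff.1 hx
  have hez : e ⟨z, hzC⟩ = .r 2 := by
    refine (d4_center _ fun x => ?_).resolve_left fun h => hz1 ?_
    · obtain ⟨y, rfl⟩ := e.surjective x
      rw [← map_mul, ← map_mul]
      exact congrArg e (Subtype.ext (hzcom y y.2).symm)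
    · exact congrArg Subtype.val (e.injective (h.trans (map_one e).symm))
  have hcenter : ∀ c ∈ C, (∀ x ∈ C, c * x = x * c) → c = 1 ∨ c = z := by
    intro c hc h
    rcases d4_center (e ⟨c, hc⟩) (fun x => by
      obtain ⟨y, rfl⟩ := e.surjective x
      rw [← map_mul, ← map_mul]
      exact congrArg e (Subtype.ext (h y y.2))) with h' | h'
    · exact Or.inl (congrArg Subtype.val (e.injective (h'.trans (map_one e).symm)))
    · exact Or.inr (congrArg Subtype.val (e.injective (h'.trans hez.symm)))
  obtain ⟨S, hS⟩ : ∃ S : Sylow 2 G, (S : Subgroup G) = C := by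
    obtain ⟨S, hCS⟩ := (IsPGroup.of_card (p := 2) (G := C) (n := 3) (by rw [hC8]; norm_num)).exists_le_sylow
    refine ⟨S, le_antisymm ?_ hCS⟩
    by_contra hne
    have hlt : C < (S : Subgroup G) := lt_of_le_not_ge hCS hne
    obtain ⟨n, ⟨hnS, hnN⟩, hnC⟩ := SetLike.exists_of_lt (Transfer.Frobenius.lt_inf_normalizer S.2 hlt)
    apply hnC
    have hn : n * z * n⁻¹ ∈ C := (mem_normalizer_iff.1 hnN z).1 hzC
    rcases hcenter _ hn (fun x hx => by
      have hx' : n⁻¹ * x * n ∈ C := by
        have := (mem_normalizer_iff.1 (inv_mem hnN) x).1 hx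
        rwa [inv_inv] at this
      calc n * z * n⁻¹ * x = n * (z * (n⁻¹ * x * n)) * n⁻¹ := by group
        _ = n * (n⁻¹ * x * n * z) * n⁻¹ := by rw [hzcom _ hx']
        _ = _ := by group) with h | h
    · exact absurd (conj_eq_one_iff.1 h) hz1
    · exact mem_centralizer_singleton_iff.2 (mul_inv_eq_iff_eq_mul.1 h)
  by_cases hiso : ∀ g : G, g * z * g⁻¹ ∈ (S : Subgroup G) → g * z * g⁻¹ = z
  · left
    have hzS : z ∈ (S : Subgroup G) := by rw [hS]; exact hzC
    obtain ⟨N, hN, hNodd, hcomm⟩ := S0215.result S z hz hzS hiso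
    haveI := hN
    refine eq_top_iff.2 fun g _ => ?_
    have hu : orderOf (g * z * g⁻¹) = 2 := by rw [Involutions.Basic.orderOf_conj, hz]
    have hmem : g * z * g⁻¹ * z ∈ N := by
      have hzi : z⁻¹ = z := inv_eq_of_mul_eq_one_right (by rw [← pow_two, ← hz, pow_orderOf_eq_one])
      have h := inv_mem (hcomm g)
      rwa [show (z * g * z⁻¹ * g⁻¹)⁻¹ = g * z * g⁻¹ * z⁻¹ by group, hzi] at h
    obtain ⟨k, hk, -, -, hkz⟩ := Involutions.Isolated.exists_transporter hz hu
      (Odd.of_dvd_nat hNodd (by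
        have := orderOf_dvd_natCard (⟨_, hmem⟩ : N)
        rwa [← Subgroup.orderOf_coe] at this))
    have hkO : k ∈ Cfsg.oddCore G := Cores.le_oddCore hNodd ((zpowers_le.2 hmem) hk)
    have hgk : k⁻¹ * g ∈ C := by
      refine mem_centralizer_singleton_iff.2 ?_
      calc k⁻¹ * g * z = k⁻¹ * (g * z * g⁻¹) * g := by group
        _ = k⁻¹ * (k * z * k⁻¹) * g := by rw [hkz]
        _ = _ := by group
    have := mul_mem (le_sup_right (a := C) hkO) (le_sup_left (b := Cfsg.oddCore G) hgk)
    rwa [mul_inv_cancel_left] at this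
  push Not at hiso
  obtain ⟨g₀, hg₀, hg₀ne⟩ := hiso
  by_cases hidx2 : ∀ H : Subgroup G, H.index ≠ 2
  · -- simple of order 168 or 360
    right; right; right
    obtain ⟨hsimple, h | h⟩ :=
      InvChar.DihedralEightCentralizer.simple_order hidx2 z hz S (fun s hs => hzcom s (hS ▸ hs)) e
    · left
      haveI : Fact (Nat.Prime 7) := ⟨by norm_num⟩
      obtain ⟨f⟩ := S0495.result h (F := ZMod 7) (ZMod.card 7)
      obtain ⟨f'⟩ := S0255.result (F := ZMod 7) (K := ZMod 2) (ZMod.card 7) (ZMod.card 2)
      have hcen : Subgroup.center (Matrix.SpecialLinearGroup (Fin 3) (ZMod 2)) = ⊥ := by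
        rw [← Subgroup.card_eq_one, Classical.Linear.natCard_center_SL, ZMod.card]; rfl
      exact ⟨(f.trans f').trans ((QuotientGroup.quotientMulEquivOfEq hcen).trans QuotientGroup.quotientBot)⟩
    · exact Or.inr (S0497.result h)
  push Not at hidx2
  obtain ⟨K, hK2⟩ := hidx2
  haveI hKn : K.Normal := Subgroup.normal_of_index_eq_two hK2
  -- the four-group in `K`
  set t := g₀ * z * g₀⁻¹ with ht_def
  have hzK : z ∈ K := by
    obtain ⟨u, hu⟩ := d4_square
    have : z = ((e.symm u : C) : G) * (e.symm u : C) := by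
      have h := congrArg e.symm (hu.trans hez.symm)
      rw [MulEquiv.symm_apply_apply, map_mul] at h
      exact (congrArg Subtype.val h).symm
    rw [this]
    exact Subgroup.mul_self_mem_of_index_two hK2 _
  have htK : t ∈ K := hKn.conj_mem z hzK g₀
  have htC : t ∈ C := hS ▸ hg₀
  have ht : orderOf t = 2 := by rw [ht_def, Involutions.Basic.orderOf_conj, hz]
  have htt : t * t = 1 := by rw [← pow_two, ← ht, pow_orderOf_eq_one]
  have ht1 : t ≠ 1 := fun h => by rw [h, orderOf_one] at ht; omega
  obtain ⟨σ, hσC, hσ⟩ : ∃ σ ∈ C, σ * t * σ⁻¹ = z * t := by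
    obtain ⟨s, hs⟩ := d4_conj (e ⟨t, htC⟩)
      (by rw [← map_mul, ← map_one e]; exact congrArg e (Subtype.ext htt))
      (fun h => ht1 (congrArg Subtype.val (e.injective (h.trans (map_one e).symm))))
      (fun h => hg₀ne (congrArg Subtype.val (e.injective (h.trans hez.symm))))
    refine ⟨(e.symm s : C), (e.symm s).2, ?_⟩
    have h := congrArg e.symm hs
    rw [map_mul, map_mul, map_inv, MulEquiv.symm_apply_apply, map_mul, MulEquiv.symm_apply_apply, ← hez,
      MulEquiv.symm_apply_apply] at h
    exact congrArg Subtype.val h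
  have hnotle : ¬ C ≤ K := fun h => by
    have h2 := S.not_dvd_index
    rw [hS] at h2
    exact h2 (hK2 ▸ Subgroup.index_dvd_of_le h)
  have htop : C ⊔ K = ⊤ := by
    by_contra hne
    have h := Subgroup.index_dvd_of_le (le_sup_right : K ≤ C ⊔ K)
    rw [hK2, Nat.dvd_prime Nat.prime_two, Subgroup.index_eq_one] at h
    have h2 : (C ⊔ K).index = 2 := h.resolve_left hne
    have heq : K = C ⊔ K := by
      refine Subgroup.eq_of_le_of_card_ge le_sup_right ?_
      have e1 := K.card_mul_index
      have e2 := (C ⊔ K).card_mul_index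
      rw [hK2] at e1
      rw [h2] at e2
      omega
    exact hnotle (heq ▸ le_sup_left)
  set U : Subgroup K := C.subgroupOf K with hU
  have hUC : Nat.card U = 4 := by
    have h1 : (K.subgroupOf C).index = 2 := by
      have h3 : K.relIndex C ∣ 2 := hK2 ▸ Subgroup.relIndex_dvd_index_of_normal K C
      rcases (Nat.dvd_prime Nat.prime_two).1 h3 with h | h
      · exact absurd (Subgroup.relIndex_eq_one.1 h) hnotle
      · exact h
    have h2 := (K.subgroupOf C).card_mul_index
    rw [h1, hC8] at h2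
    have : Nat.card U = Nat.card (K.subgroupOf C) := Nat.card_congr
      { toFun := fun u => ⟨⟨u.1.1, u.2⟩, u.1.2⟩
        invFun := fun u => ⟨⟨u.1.1, u.2⟩, u.1.2⟩
        left_inv := fun u => rfl
        right_inv := fun u => rfl }
    omega
  let zK : K := ⟨z, hzK⟩
  let tK : K := ⟨t, htK⟩
  have hzKo : orderOf zK = 2 := by rw [← Subgroup.orderOf_coe]; exact hz
  have htKo : orderOf tK = 2 := by rw [← Subgroup.orderOf_coe]; exact ht
  have hne : zK ≠ tK := fun h => hg₀ne (congrArg Subtype.val h).symm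
  have hcz : centralizer ({zK} : Set K) = U := by
    ext x
    rw [mem_centralizer_singleton_iff, hU, mem_subgroupOf, hCdef, mem_centralizer_singleton_iff]
    exact ⟨fun h => congrArg Subtype.val h, fun h => Subtype.ext h⟩
  have hzU : zK ∈ U := hzC
  have hUel : ∀ u ∈ U, u = 1 ∨ u = zK ∨ u = tK ∨ u = zK * tK := by
    intro u hu
    by_contra hcon
    push Not at hcon
    obtain ⟨h1, h2, h3, h4⟩ := hcon
    have hzz : zK * zK = 1 := by rw [← pow_two, ← hzKo, pow_orderOf_eq_one]
    let T : Finset K := {1, zK, tK, zK * tK, u}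
    have hz1' : zK ≠ 1 := fun h => hz1 (congrArg Subtype.val h)
    have ht1' : tK ≠ 1 := fun h => ht1 (congrArg Subtype.val h)
    have e1 : zK * tK ≠ 1 := fun e => hne (mul_left_cancel (hzz.trans e.symm))
    have e2 : zK * tK ≠ zK := fun e => ht1' (mul_eq_left.1 e)
    have e3 : zK * tK ≠ tK := fun e => hz1' (mul_eq_right.1 e)
    have hT : T.card = 5 := by
      simp only [T]
      rw [Finset.card_insert_of_notMem, Finset.card_insert_of_notMem, Finset.card_insert_of_notMem,
        Finset.card_insert_of_notMem, Finset.card_singleton] <;>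
        simp only [Finset.mem_insert, Finset.mem_singleton, not_or]
      · exact h4.symm
      · exact ⟨e3.symm, h3.symm⟩
      · exact ⟨hne, e2.symm, h2.symm⟩
      · exact ⟨hz1'.symm, ht1'.symm, e1.symm, h1.symm⟩
    have hsub : ∀ y ∈ T, y ∈ U := by
      intro y hy
      simp only [T, Finset.mem_insert, Finset.mem_singleton] at hy
      rcases hy with rfl | rfl | rfl | rfl | rfl
      exacts [U.one_mem, hzU, htC, U.mul_mem hzU htC, hu]
    have := Nat.card_le_card_of_injective (fun y : T => (⟨y.1, hsub y.1 y.2⟩ : U))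
      fun y z e => Subtype.ext (by simpa using congrArg Subtype.val e)
    rw [Nat.card_eq_fintype_card, Fintype.card_coe, hT] at this
    omega
  have hsplit : ∀ g : G, ∃ c ∈ C, ∃ k ∈ K, g = k * c := by
    intro g
    obtain ⟨k, hk, c, hc, h⟩ := mem_sup_of_normal_left.1 (show g ∈ K ⊔ C by rw [sup_comm, htop]; trivial)
    exact ⟨c, hc, k, hk, h.symm⟩
  have hconj : ∀ w : K, orderOf w = 2 → IsConj zK w := by
    intro w hw
    have hw' : orderOf (w : G) = 2 := by rw [Subgroup.orderOf_coe]; exact hw
    obtain ⟨R, hR⟩ := (IsPGroup.of_card (p := 2) (G := zpowers (w : G)) (n := 1)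
      (by rw [Nat.card_zpowers, hw', pow_one])).exists_le_sylow
    obtain ⟨c, hc⟩ := MulAction.exists_smul_eq G R S
    have hcw : c * w * c⁻¹ ∈ (S : Subgroup G) := by
      rw [← hc, Sylow.coe_subgroup_smul]
      exact ⟨w, hR (mem_zpowers _), rfl⟩
    have hG : ∃ g : G, g * z * g⁻¹ = c * w * c⁻¹ := by
      have hcK : c * w * c⁻¹ ∈ K := hKn.conj_mem w w.2 c
      rcases hUel ⟨_, hcK⟩ (mem_subgroupOf.2 (hS.le hcw)) with h | h | h | h
      · exfalso
        have hw1 : (w : G) = 1 := conj_eq_one_iff.1 (congrArg Subtype.val h)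
        rw [hw1, orderOf_one] at hw'
        omega
      · refine ⟨1, ?_⟩
        rw [show c * w * c⁻¹ = z from congrArg Subtype.val h]
        group
      · exact ⟨g₀, (congrArg Subtype.val h).symm⟩
      · refine ⟨σ * g₀, ?_⟩
        rw [show c * w * c⁻¹ = z * t from congrArg Subtype.val h]
        show σ * g₀ * z * (σ * g₀)⁻¹ = z * t
        rw [← hσ, ht_def]
        group
    obtain ⟨g, hg⟩ := hG
    obtain ⟨s, hs, k, hk, hgk⟩ := hsplit (c⁻¹ * g)
    refine isConj_iff.2 ⟨⟨k, hk⟩, Subtype.ext ?_⟩
    show k * z * k⁻¹ = (w : G)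
    calc k * z * k⁻¹ = k * (s * z * s⁻¹) * k⁻¹ := by rw [hzcom s hs, mul_inv_cancel_right]
      _ = (k * s) * z * (k * s)⁻¹ := by group
      _ = c⁻¹ * (g * z * g⁻¹) * c := by rw [← hgk]; group
      _ = _ := by rw [hg]; group
  obtain ⟨hN12, hcases⟩ := Four.structure_four U zK tK hUC hzKo htKo hne (show tK ∈ U from htC) hcz hconj
  -- the image of `U`
  have hcardG : Nat.card G = 2 * Nat.card K := by rw [← K.card_mul_index, hK2, mul_comm]
  have hNorm : ∀ g : G, g ∈ normalizer ((C ⊓ K : Subgroup G) : Set G) → ∀ hg : g ∈ K,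
      (⟨g, hg⟩ : K) ∈ normalizer (U : Set K) := by
    intro g hg hgK
    rw [mem_normalizer_iff]
    intro x
    constructor
    · exact fun hx => ((mem_normalizer_iff.1 hg x).1 ⟨hx, x.2⟩).1
    · intro hx
      exact ((mem_normalizer_iff.1 hg x).2 ⟨hx, (((⟨g, hgK⟩ : K) * x * ⟨g, hgK⟩⁻¹ : K)).2⟩).1
  have htriv : ∀ R : Subgroup G, R.Normal → R ⊓ K = ⊥ → R = ⊥ := by
    intro R hR hRK
    haveI := hR
    have hcomm : ∀ r ∈ R, ∀ k ∈ K, Commute r k := fun r hr k hk =>
      Subgroup.commute_of_normal_of_disjoint R K inferInstance inferInstance (disjoint_iff.2 hRK) r k hr hk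
    refine eq_bot_iff.2 fun r hr => mem_bot.2 ?_
    have hrC : r ∈ C := mem_centralizer_singleton_iff.2 (hcomm r hr z hzK).eq
    have hcen : r = 1 ∨ r = z := hcenter r hrC fun x hx => by
      have hd : (x * r * x⁻¹) * r⁻¹ ∈ R ⊓ K :=
        ⟨R.mul_mem (hR.conj_mem r hr x) (R.inv_mem hr), by
          have h2 : (x * r * x⁻¹) ∈ K ↔ r ∈ K := hKn.mem_comm_iff.trans (by rw [inv_mul_cancel_left])
          show x * r * x⁻¹ * r⁻¹ ∈ K
          rw [Subgroup.mul_mem_iff_of_index_two hK2, inv_mem_iff]
          exact h2⟩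
      rw [hRK, mem_bot, mul_inv_eq_one] at hd
      exact (mul_inv_eq_iff_eq_mul.1 hd).symm
    rcases hcen with h | h
    · exact h
    · have : z ∈ R ⊓ K := ⟨h ▸ hr, hzK⟩
      rw [hRK, mem_bot] at this
      exact absurd this hz1
  rcases hcases with ⟨hUn, hK12⟩ | hsimple
  · -- symmetric group of degree four
    right; left
    haveI := hUn
    have hU' : ∀ g : G, g ∈ normalizer ((C ⊓ K : Subgroup G) : Set G) := by
      have hKle : K ≤ normalizer ((C ⊓ K : Subgroup G) : Set G) := fun g hg => mem_normalizer_iff.2 fun x =>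
        ⟨fun hx => ⟨hUn.conj_mem ⟨x, hx.2⟩ hx.1 ⟨g, hg⟩, K.mul_mem (K.mul_mem hg hx.2) (K.inv_mem hg)⟩,
          fun hx => by
            have hxK : x ∈ K := by
              have := K.mul_mem (K.mul_mem (K.inv_mem hg) hx.2) hg
              simpa [mul_assoc] using this
            refine ⟨?_, hxK⟩
            have h : ((⟨g, hg⟩ : K)⁻¹ * ⟨g * x * g⁻¹, hx.2⟩ * (⟨g, hg⟩ : K)⁻¹⁻¹) ∈ U :=
              hUn.conj_mem ⟨_, hx.2⟩ hx.1 (⟨g, hg⟩ : K)⁻¹
            have h' : g⁻¹ * (g * x * g⁻¹) * g⁻¹⁻¹ ∈ C := h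
            simpa [mul_assoc] using h'⟩
      have hCle : C ≤ normalizer ((C ⊓ K : Subgroup G) : Set G) :=
        le_trans (le_inf le_normalizer (normalizer_eq_top_iff.2 hKn ▸ le_top))
          inf_normalizer_le_normalizer_inf
      exact fun g => (htop ▸ sup_le hCle hKle : (⊤ : Subgroup G) ≤ _) (mem_top g)
    haveI : Fact (Nat.Prime 3) := ⟨Nat.prime_three⟩
    obtain ⟨P⟩ : Nonempty (Sylow 3 G) := inferInstance
    have hG24 : Nat.card G = 24 := by rw [hcardG, hK12]
    have hP3 : Nat.card (P : Subgroup G) = 3 := by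
      rw [P.card_eq_multiplicity, hG24]
      have : (24 : ℕ).factorization 3 = 1 := by
        rw [show (24 : ℕ) = 3 * 8 by norm_num, Nat.factorization_mul (by norm_num) (by norm_num),
          Finsupp.add_apply, Nat.Prime.factorization_self Nat.prime_three,
          Nat.factorization_eq_zero_of_not_dvd (by norm_num)]
      rw [this, pow_one]
    set H := normalizer ((P : Subgroup G) : Set G) with hH
    have hcore : H.normalCore = ⊥ := by
      refine htriv _ inferInstance (eq_bot_iff.2 fun r hr => mem_bot.2 ?_)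
      set R := H.normalCore with hRdef
      -- involutions of `R` would put the four-group into the normalizer of `P`
      have hRU : R ⊓ (C ⊓ K) = ⊥ := by
        by_contra hne'
        obtain ⟨⟨w, hwR, hwC, hwK⟩, hw1⟩ := Subgroup.ne_bot_iff_exists_ne_one.1 hne'
        replace hw1 : w ≠ 1 := fun e => hw1 (Subtype.ext e)
        have hall : ∀ v : K, orderOf v = 2 → (v : G) ∈ R := fun v hv => by
          have hwo : orderOf (⟨w, hwK⟩ : K) = 2 := by
            rcases hUel ⟨w, hwK⟩ hwC with h | h | h | h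
            · exact absurd (congrArg Subtype.val h) hw1
            · rw [h]; exact hzKo
            · rw [h]; exact htKo
            · rw [h, ← Subgroup.orderOf_coe]
              show orderOf (z * t) = 2
              rw [← hσ, Involutions.Basic.orderOf_conj, ht]
          obtain ⟨k, hk⟩ := isConj_iff.1 ((hconj _ hwo).symm.trans (hconj v hv))
          rw [← hk]
          exact Subgroup.Normal.conj_mem inferInstance w hwR (k : G)
        have hzH : z ∈ H := normalCore_le _ (hall zK hzKo)
        obtain ⟨⟨q, hqP⟩, hq⟩ := exists_prime_orderOf_dvd_card' (G := (P : Subgroup G)) 3 (by rw [hP3])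
        rw [Subgroup.orderOf_mk] at hq
        have hqK : q ∈ K := by
          have h := Subgroup.mul_self_mem_of_index_two hK2 (q ^ 2)
          rwa [← pow_add, show 2 + 2 = 3 + 1 from rfl, pow_succ, ← hq, pow_orderOf_eq_one, one_mul] at h
        have hd : ⁅z, q⁆ ∈ (P : Subgroup G) ⊓ (C ⊓ K) := by
          refine ⟨?_, ?_⟩
          · rw [commutatorElement_def]
            exact mul_mem ((mem_normalizer_iff.1 hzH q).1 hqP) ((P : Subgroup G).inv_mem hqP)
          · rw [commutatorElement_def, show z * q * z⁻¹ * q⁻¹ = z * (q * z⁻¹ * q⁻¹) by group]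
            exact mul_mem (show z ∈ C ⊓ K from ⟨hzC, hzK⟩)
              ((mem_normalizer_iff.1 (hU' q) z⁻¹).1 (inv_mem (show z ∈ C ⊓ K from ⟨hzC, hzK⟩)))
        have hd1 : ⁅z, q⁆ = 1 := by
          have h3 : orderOf ⁅z, q⁆ ∣ 3 := by
            have := orderOf_dvd_natCard (⟨_, hd.1⟩ : (P : Subgroup G))
            rwa [← Subgroup.orderOf_coe, hP3] at this
          have h8 : orderOf ⁅z, q⁆ ∣ 8 := by
            have := orderOf_dvd_natCard (⟨_, hd.2.1⟩ : C)
            rwa [← Subgroup.orderOf_coe, hC8] at this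
          exact orderOf_eq_one_iff.1 (Nat.eq_one_of_dvd_coprimes (by norm_num) h3 h8)
        have hqC : q ∈ C := mem_centralizer_singleton_iff.2 (commutatorElement_eq_one_iff_mul_comm.1 hd1).symm
        have h38 : 3 ∣ 8 := by
          have := orderOf_dvd_natCard (⟨q, hqC⟩ : C)
          rwa [← Subgroup.orderOf_coe, hq, hC8] at this
        norm_num at h38
      have hrz : ⁅r, z⁆ ∈ R ⊓ (C ⊓ K) := by
        refine ⟨?_, ?_⟩
        · rw [commutatorElement_def, show r * z * r⁻¹ * z⁻¹ = r * (z * r⁻¹ * z⁻¹) by group]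
          exact mul_mem hr.1 (Subgroup.Normal.conj_mem inferInstance _ (inv_mem hr.1) z)
        · rw [commutatorElement_def]
          exact mul_mem ((mem_normalizer_iff.1 (hU' r) z).1 ⟨hzC, hzK⟩) (Subgroup.inv_mem _ (show z ∈ C ⊓ K from ⟨hzC, hzK⟩))
      rw [hRU, mem_bot] at hrz
      have hrC : r ∈ C := mem_centralizer_singleton_iff.2 (commutatorElement_eq_one_iff_mul_comm.1 hrz)
      have : r ∈ R ⊓ (C ⊓ K) := ⟨hr.1, hrC, hr.2⟩
      rwa [hRU, mem_bot] at this
    refine equiv_perm (H := H) (n := 4) ?_ (by rw [hG24]; rfl) hcore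
    have hd : H.index ∣ 8 := by
      have h := Subgroup.index_dvd_of_le (le_normalizer : (P : Subgroup G) ≤ H)
      have h2 := (P : Subgroup G).card_mul_index
      rw [hP3, hG24] at h2
      rwa [show (P : Subgroup G).index = 8 by omega] at h
    have hmod : H.index ≡ 1 [MOD 3] := by
      have h := card_sylow_modEq_one 3 G
      rw [P.card_eq_index_normalizer] at h
      exact h
    have hne1 : H.index ≠ 1 := fun h => by
      rw [Subgroup.index_eq_one] at h
      rw [h] at hcore
      have h2 : z ∈ (⊤ : Subgroup G).normalCore := by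
        rw [Subgroup.normalCore_eq_self]; trivial
      rw [hcore, mem_bot] at h2
      exact hz1 h2
    have h8 := Nat.le_of_dvd (by norm_num) hd
    unfold Nat.ModEq at hmod
    interval_cases hi : H.index <;> first | rfl | omega
  · -- symmetric group of degree five
    right; right; left
    haveI := hsimple
    haveI : Nontrivial U := Finite.one_lt_card_iff_nontrivial.1 (by omega)
    haveI : IsKleinFour U := ⟨hUC, by
      rw [Monoid.exponent_eq_prime_iff Nat.prime_two]
      intro u hu
      have hu' : (u : K) ≠ 1 := fun h => hu (Subtype.ext h)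
      rw [← Subgroup.orderOf_coe]
      rcases hUel u u.2 with h | h | h | h
      · exact absurd h hu'
      · rw [h]; exact hzKo
      · rw [h]; exact htKo
      · rw [h, ← Subgroup.orderOf_coe]
        show orderOf (z * t) = 2
        rw [← hσ, Involutions.Basic.orderOf_conj, ht]⟩
    obtain ⟨f⟩ := S3278.result zK hzKo U hcz.ge inferInstance
      (by rw [hcz, Subgroup.relIndex_self]; norm_num)
      (by rw [hcz, subgroupOf_self]; infer_instance)
    have hK60 : Nat.card K = 60 := by
      rw [Nat.card_congr f.toEquiv]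
      have := two_mul_nat_card_alternatingGroup (α := Fin 5)
      rw [Nat.card_perm, Nat.card_fin] at this
      norm_num [Nat.factorial] at this ⊢
      omega
    set H := normalizer ((C ⊓ K : Subgroup G) : Set G) with hH
    have hCle : C ≤ H :=
      le_trans (le_inf le_normalizer (normalizer_eq_top_iff.2 hKn ▸ le_top)) inf_normalizer_le_normalizer_inf
    have hHK : Nat.card (H ⊓ K : Subgroup G) = 12 := by
      rw [← hN12]
      refine Nat.card_congr
        { toFun := fun x => ⟨⟨x.1, x.2.2⟩, hNorm x.1 x.2.1 x.2.2⟩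
          invFun := fun x => ⟨x.1.1, ?_, x.1.2⟩
          left_inv := fun x => rfl
          right_inv := fun x => rfl }
      show (x.1 : G) ∈ normalizer ((C ⊓ K : Subgroup G) : Set G)
      rw [mem_normalizer_iff]
      intro y
      constructor
      · intro hy
        exact ⟨(mem_normalizer_iff.1 x.2 ⟨y, hy.2⟩).1 hy.1, hKn.conj_mem y hy.2 _⟩
      · intro hy
        have hyK : y ∈ K := by
          have := hKn.conj_mem _ hy.2 (x.1 : G)⁻¹
          simpa [mul_assoc] using this
        exact ⟨(mem_normalizer_iff.1 x.2 ⟨y, hyK⟩).2 hy.1, hyK⟩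
    have hH24 : Nat.card H = 24 := by
      have h3 : K.relIndex H = 2 := by
        rcases (Nat.dvd_prime Nat.prime_two).1 (hK2 ▸ Subgroup.relIndex_dvd_index_of_normal K H) with h | h
        · exact absurd (hCle.trans (Subgroup.relIndex_eq_one.1 h)) hnotle
        · exact h
      have h4 := (K.subgroupOf H).card_mul_index
      rw [show (K.subgroupOf H).index = 2 from h3, ← inf_subgroupOf_left K H,
        Nat.card_congr (subgroupOfEquivOfLe (inf_le_left : H ⊓ K ≤ H)).toEquiv, hHK] at h4
      omega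
    have hidxH : H.index = 5 := by
      have h := H.card_mul_index
      rw [hH24, hcardG, hK60] at h
      omega
    refine equiv_perm hidxH (by rw [hcardG, hK60]; rfl) (htriv _ inferInstance ?_)
    haveI : (H.normalCore.subgroupOf K).Normal := Subgroup.normal_subgroupOf
    rcases IsSimpleGroup.eq_bot_or_eq_top_of_normal (H.normalCore.subgroupOf K) inferInstance with h | h
    · rw [subgroupOf_eq_bot] at h
      exact h.eq_bot
    · exfalso
      have hall : ∀ k : K, k ∈ normalizer (U : Set K) := fun k => by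
        have hk : (k : G) ∈ H.normalCore := (h ▸ mem_top k : k ∈ H.normalCore.subgroupOf K)
        exact hNorm k (H.normalCore_le hk) k.2
      have hUn : U.Normal := normalizer_eq_top_iff.1 (eq_top_iff.2 fun k _ => hall k)
      rcases IsSimpleGroup.eq_bot_or_eq_top_of_normal U hUn with h' | h'
      · rw [h', Subgroup.card_bot] at hUC; omega
      · rw [h', Subgroup.card_top, hK60] at hUC; omega

end Cfsg.Agent.Techniques.DihedralEight.Main
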