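import Cfsg.Agent.Lib.Cores.Basic
import Mathlib

/-!
A group with a self centralizing four-group and one class of involutions is simple or of order twelve.
-/

set_option autoImplicit false

namespace Cfsg.Agent.Techniques.DihedralEight.Four

open Subgroup

/-- A Sylow subgroup central in its normalizer leaves only the odd core. -/
theorem exists_complement {H : Type*} [Group H] [Finite H] (P : Sylow 2 H)
    (h : normalizer ((P : Subgroup H) : Set H) ≤ centralizer ((P : Subgroup H) : Set H))
    (hO : Cfsg.oddCore H = ⊥) : (P : Subgroup H) = ⊤ := by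
  haveI : Fact (Nat.Prime 2) := ⟨Nat.prime_two⟩
  have hodd : Odd (Nat.card (MonoidHom.transferSylow P h).ker) :=
    Nat.not_even_iff_odd.1 fun he => MonoidHom.not_dvd_card_ker_transferSylow P h (even_iff_two_dvd.1 he)
  have hker : (MonoidHom.transferSylow P h).ker = ⊥ := le_bot_iff.1 (hO ▸ Cores.le_oddCore hodd)
  have hc := MonoidHom.ker_transferSylow_isComplement' P h
  rw [hker] at hc
  exact Subgroup.isComplement'_bot_left.1 hc

theorem structure_four {K : Type*} [Group K] [Finite K] (U : Subgroup K) (z t : K) (hU4 : Nat.card U = 4)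
    (hz : orderOf z = 2) (ht : orderOf t = 2) (hzt : z ≠ t) (htU : t ∈ U)
    (hCz : centralizer ({z} : Set K) = U) (hconj : ∀ w : K, orderOf w = 2 → IsConj z w) :
    Nat.card (normalizer (U : Set K)) = 12 ∧ ((U.Normal ∧ Nat.card K = 12) ∨ IsSimpleGroup K) := by
  classical
  haveI : Fact (Nat.Prime 2) := ⟨Nat.prime_two⟩
  have hzU : z ∈ U := hCz ▸ mem_centralizer_singleton_iff.2 rfl
  have hz1 : z ≠ 1 := fun e => by rw [e, orderOf_one] at hz; omega
  have ht1 : t ≠ 1 := fun e => by rw [e, orderOf_one] at ht; omega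
  have hz2 : z * z = 1 := by rw [← pow_two, ← hz, pow_orderOf_eq_one]
  have ht2 : t * t = 1 := by rw [← pow_two, ← ht, pow_orderOf_eq_one]
  have hzt' : t * z = z * t := mem_centralizer_singleton_iff.1 (hCz.symm ▸ htU : t ∈ centralizer ({z} : Set K))
  have hUel : ∀ u ∈ U, u = 1 ∨ u = z ∨ u = t ∨ u = z * t := by
    intro u hu
    by_contra hne
    push Not at hne
    obtain ⟨h1, h2, h3, h4⟩ := hne
    let T : Finset K := {1, z, t, z * t, u}
    have e1 : z * t ≠ 1 := fun e => hzt (mul_left_cancel (hz2.trans e.symm))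
    have e2 : z * t ≠ z := fun e => ht1 (mul_eq_left.1 e)
    have e3 : z * t ≠ t := fun e => hz1 (mul_eq_right.1 e)
    have hT : T.card = 5 := by
      simp only [T]
      rw [Finset.card_insert_of_notMem, Finset.card_insert_of_notMem, Finset.card_insert_of_notMem,
        Finset.card_insert_of_notMem, Finset.card_singleton] <;>
        simp only [Finset.mem_insert, Finset.mem_singleton, not_or]
      · exact h4.symm
      · exact ⟨e3.symm, h3.symm⟩
      · exact ⟨hzt, e2.symm, h2.symm⟩
      · exact ⟨hz1.symm, ht1.symm, e1.symm, h1.symm⟩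
    have hsub : ∀ y ∈ T, y ∈ U := by
      intro y hy
      simp only [T, Finset.mem_insert, Finset.mem_singleton] at hy
      rcases hy with rfl | rfl | rfl | rfl | rfl
      exacts [U.one_mem, hzU, htU, U.mul_mem hzU htU, hu]
    have := Nat.card_le_card_of_injective (fun y : T => (⟨y.1, hsub y.1 y.2⟩ : U))
      fun y z e => Subtype.ext (by simpa using congrArg Subtype.val e)
    rw [Nat.card_eq_fintype_card, Fintype.card_coe, hT] at this
    omega
  have hUo : ∀ u ∈ U, u ≠ 1 → orderOf u = 2 := by
    intro u hu hu1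
    refine orderOf_eq_prime ?_ hu1
    rw [pow_two]
    rcases hUel u hu with rfl | rfl | rfl | rfl
    · exact absurd rfl hu1
    · exact hz2
    · exact ht2
    · calc z * t * (z * t) = z * (t * z) * t := by group
        _ = (z * z) * (t * t) := by rw [hzt']; group
        _ = 1 := by rw [hz2, ht2, one_mul]
  have hcard : ∀ w : K, orderOf w = 2 → Nat.card (centralizer ({w} : Set K)) = 4 := by
    intro w hw
    obtain ⟨g, rfl⟩ := isConj_iff.1 (hconj w hw)
    have : centralizer ({g * z * g⁻¹} : Set K) = (centralizer ({z} : Set K)).map (MulAut.conj g).toMonoidHom := by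
      ext x
      simp only [mem_centralizer_singleton_iff, Subgroup.mem_map]
      constructor
      · intro h
        refine ⟨g⁻¹ * x * g, ?_, by simp [mul_assoc]⟩
        calc g⁻¹ * x * g * z = g⁻¹ * (x * (g * z * g⁻¹)) * g := by group
          _ = g⁻¹ * (g * z * g⁻¹ * x) * g := by rw [h]
          _ = _ := by group
      · rintro ⟨y, hy, rfl⟩
        show g * y * g⁻¹ * (g * z * g⁻¹) = g * z * g⁻¹ * (g * y * g⁻¹)
        calc g * y * g⁻¹ * (g * z * g⁻¹) = g * (y * z) * g⁻¹ := by group
          _ = g * (z * y) * g⁻¹ := by rw [hy]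
          _ = _ := by group
    rw [this, hCz, card_map_of_injective (MulAut.conj g).injective, hU4]
  have hU2 : IsPGroup 2 U := IsPGroup.of_card (n := 2) (by rw [hU4]; norm_num)
  obtain ⟨P, hUP⟩ := hU2.exists_le_sylow
  have hPU : (P : Subgroup K) = U := by
    refine (Subgroup.eq_of_le_of_card_ge hUP ?_).symm
    haveI : Nontrivial (P : Subgroup K) := ⟨⟨z, hUP hzU⟩, 1, fun e => hz1 (congrArg Subtype.val e)⟩
    obtain ⟨⟨w, hw⟩, hw1⟩ := @exists_ne _ P.2.center_nontrivial (1 : Subgroup.center (P : Subgroup K))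
    obtain ⟨j, hj⟩ := P.2 w
    have hpos : 1 < orderOf (w : K) := by
      rw [Subgroup.orderOf_coe]
      rcases (orderOf_pos w).nat_succ_le.eq_or_lt with h | h
      · exact absurd (orderOf_eq_one_iff.1 h.symm) fun e => hw1 (Subtype.ext e)
      · exact h
    obtain ⟨e, -, he⟩ := (Nat.dvd_prime_pow Nat.prime_two).1
      ((Subgroup.orderOf_coe w).symm ▸ orderOf_dvd_of_pow_eq_one hj : orderOf (w : K) ∣ 2 ^ j)
    have he0 : e ≠ 0 := fun h => by rw [h, pow_zero] at he; omega
    have hwo : orderOf ((w : K) ^ 2 ^ (e - 1)) = 2 := by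
      rw [orderOf_pow_of_dvd (by positivity) (he ▸ pow_dvd_pow 2 (by omega)), he, Nat.pow_div (by omega) (by norm_num),
        show e - (e - 1) = 1 by omega, pow_one]
    have hle : (P : Subgroup K) ≤ centralizer ({(w : K) ^ 2 ^ (e - 1)} : Set K) := fun x hx => by
      refine mem_centralizer_singleton_iff.2 (Commute.pow_right ?_ _).eq
      exact congrArg Subtype.val (mem_center_iff.1 hw ⟨x, hx⟩)
    have := Subgroup.card_le_of_le hle
    rw [hcard _ hwo] at this
    rw [hU4]
    exact this
  have hfpf : ∀ N : Subgroup K, N.Normal → Odd (Nat.card N) → N = ⊥ := by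
    intro N hN hodd
    have hinv : ∀ w : K, orderOf w = 2 → ∀ x ∈ N, w * x * w⁻¹ = x⁻¹ := by
      intro w hw x hx
      have hw2 : w * w = 1 := by rw [← pow_two, ← hw, pow_orderOf_eq_one]
      have key := MonoidHom.FixedPointFree.coe_eq_inv_of_involutive (φ := (MulAut.conjNormal w : MulAut ↥N))
        (fun y hy => by
          have h' : w * (y : K) * w⁻¹ = y := congrArg Subtype.val hy
          have hmem : (y : K) ∈ centralizer ({w} : Set K) :=
            mem_centralizer_singleton_iff.2 (mul_inv_eq_iff_eq_mul.1 h').symm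
          have h1 : orderOf (y : K) ∣ 2 ^ 2 := by
            have := orderOf_dvd_natCard (⟨_, hmem⟩ : centralizer ({w} : Set K))
            rwa [← Subgroup.orderOf_coe, hcard w hw] at this
          have h2 : orderOf (y : K) ∣ Nat.card N := Subgroup.orderOf_coe y ▸ orderOf_dvd_natCard y
          exact Subtype.ext (orderOf_eq_one_iff.1
            (Nat.eq_one_of_dvd_coprimes ((Nat.coprime_two_left.2 hodd).pow_left 2) h1 h2)))
        (fun y => Subtype.ext (by
          show w * (w * (y : K) * w⁻¹) * w⁻¹ = y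
          calc _ = (w * w) * y * (w * w)⁻¹ := by group
            _ = _ := by rw [hw2]; group))
      exact congrArg Subtype.val (congrFun key ⟨x, hx⟩)
    refine eq_bot_iff.2 fun x hx => ?_
    have hzt2 : orderOf (z * t) = 2 := hUo _ (U.mul_mem hzU htU) fun e => hzt (mul_left_cancel (hz2.trans e.symm))
    have e1 := hinv _ hzt2 x hx
    have e2 : (z * t) * x * (z * t)⁻¹ = x := by
      calc (z * t) * x * (z * t)⁻¹ = z * (t * x * t⁻¹) * z⁻¹ := by group
        _ = x := by rw [hinv t ht x hx, hinv z hz x⁻¹ (N.inv_mem hx), inv_inv]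
    have hxx : x * x = 1 := mul_eq_one_iff_eq_inv.2 (e2.symm.trans e1)
    have ho : Odd (orderOf x) := Odd.of_dvd_nat hodd (by
      have := orderOf_dvd_natCard (⟨x, hx⟩ : N)
      rwa [← Subgroup.orderOf_coe] at this)
    have hd : orderOf x ∣ 2 := orderOf_dvd_of_pow_eq_one (by rw [pow_two, hxx])
    rcases (Nat.dvd_prime Nat.prime_two).1 hd with h | h
    · exact mem_bot.2 (orderOf_eq_one_iff.1 h)
    · rw [h] at ho; exact absurd ho (by decide)
  have hO : Cfsg.oddCore K = ⊥ := hfpf _ inferInstance Cores.oddCore_odd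
  -- the normalizer
  set N := normalizer (U : Set K) with hN
  have hUN : U ≤ N := le_normalizer
  have hUcomm : U ≤ centralizer (U : Set K) := fun a ha => mem_centralizer_iff.2 fun b hb => by
    have hsq : ∀ u ∈ U, u⁻¹ = u := fun u hu => by
      by_cases hu1 : u = 1
      · rw [hu1, inv_one]
      · exact inv_eq_of_mul_eq_one_right (by rw [← pow_two, ← hUo u hu hu1, pow_orderOf_eq_one])
    calc b * a = (b * a)⁻¹ := (hsq _ (U.mul_mem hb ha)).symm
      _ = a * b := by rw [mul_inv_rev, hsq a ha, hsq b hb]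
  have hN12 : Nat.card N = 12 := by
    let T3 := {w : K // w ∈ U ∧ w ≠ 1}
    let φ : N →* Equiv.Perm T3 := MonoidHom.mk' (fun n =>
      { toFun := fun w => ⟨n * w * (n : K)⁻¹, ((mem_normalizer_iff.1 n.2) w).1 w.2.1,
          fun e => w.2.2 (conj_eq_one_iff.1 e)⟩
        invFun := fun w => ⟨(n : K)⁻¹ * w * n, by
            have := ((mem_normalizer_iff.1 (N.inv_mem n.2)) w).1 w.2.1
            rwa [inv_inv] at this,
          fun e => w.2.2 (by
            have h : (w : K) = n * ((n : K)⁻¹ * w * n) * (n : K)⁻¹ := by group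
            rw [h, e]; group)⟩
        left_inv := fun w => Subtype.ext (by show (n : K)⁻¹ * (n * w * (n : K)⁻¹) * n = w; group)
        right_inv := fun w => Subtype.ext (by show (n : K) * ((n : K)⁻¹ * w * n) * (n : K)⁻¹ = w; group) })
      fun a b => Equiv.ext fun w => Subtype.ext (by
        show (a : K) * b * w * ((a : K) * b)⁻¹ = a * (b * w * (b : K)⁻¹) * (a : K)⁻¹
        group)
    have hker : φ.ker ≤ U.subgroupOf N := by
      intro n hn
      have h := congrArg Subtype.val (Equiv.congr_fun hn ⟨z, hzU, hz1⟩)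
      refine mem_subgroupOf.2 (hCz ▸ mem_centralizer_singleton_iff.2 ?_)
      exact mul_inv_eq_iff_eq_mul.1 h
    have hk : Nat.card φ.ker ∣ 4 := by
      have := card_dvd_of_le hker
      rwa [Nat.card_congr (subgroupOfEquivOfLe hUN).toEquiv, hU4] at this
    have hT3 : Nat.card T3 = 3 := by
      have e : Nat.card T3 = Nat.card {u : U // u ≠ 1} := Nat.card_congr
        { toFun := fun w => ⟨⟨w.1, w.2.1⟩, fun e => w.2.2 (congrArg Subtype.val e)⟩
          invFun := fun u => ⟨u.1.1, u.1.2, fun e => u.2 (Subtype.ext e)⟩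
          left_inv := fun w => rfl
          right_inv := fun u => rfl }
      haveI := Fintype.ofFinite U
      rw [e, Nat.card_eq_fintype_card, Fintype.card_subtype_compl, Fintype.card_subtype_eq,
        ← Nat.card_eq_fintype_card, hU4]
    have hr : Nat.card φ.range ∣ 6 := by
      have := φ.range.card_subgroup_dvd_card
      rwa [Nat.card_perm, hT3] at this
    have hdvd : Nat.card N ∣ 24 := by
      rw [← φ.ker.card_mul_index, Subgroup.index_ker]
      exact Nat.mul_dvd_mul hk hr
    have h4 : 4 ∣ Nat.card N := hU4 ▸ card_dvd_of_le hUN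
    have hodd : ¬ 8 ∣ Nat.card N := fun h => by
      have h8 : 8 ∣ Nat.card K := h.trans N.card_subgroup_dvd_card
      have := P.card_eq_multiplicity
      rw [hPU, hU4] at this
      have h3 : 2 ^ 3 ∣ Nat.card K := h8
      rw [Nat.Prime.pow_dvd_iff_le_factorization Nat.prime_two Nat.card_pos.ne'] at h3
      have : 2 ^ 3 ≤ 4 := this ▸ Nat.pow_le_pow_right (by norm_num) h3
      omega
    have hne : Nat.card N ≠ 4 := by
      intro h
      have hNU : N = U := (Subgroup.eq_of_le_of_card_ge hUN (by rw [h, hU4])).symm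
      have htop := exists_complement P (by rw [hPU, ← hN, hNU]; exact hUcomm) hO
      obtain ⟨g, hg⟩ := isConj_iff.1 (hconj t ht)
      have hgU : g ∈ U := hPU ▸ htop ▸ mem_top g
      rw [(mem_centralizer_iff.1 (hUcomm hgU) z hzU).symm, mul_inv_cancel_right] at hg
      exact hzt hg
    have hle := Nat.le_of_dvd (by norm_num) hdvd
    obtain ⟨a, ha⟩ := h4
    rw [ha] at hdvd hodd hne hle ⊢
    have ha6 : a ≤ 6 := by omega
    interval_cases a <;> simp_all (config := { decide := true })
  refine ⟨hN12, ?_⟩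
  by_cases hUn : U.Normal
  · left
    refine ⟨hUn, ?_⟩
    rw [hN, normalizer_eq_top_iff.2 hUn, card_top] at hN12
    exact hN12
  right
  haveI : Nontrivial K := ⟨⟨z, 1, hz1⟩⟩
  refine ⟨fun M hM => ?_⟩
  by_cases hM1 : M = ⊥
  · exact Or.inl hM1
  right
  haveI := hM
  have hUM : U ≤ M := by
    have heven : ¬ Odd (Nat.card M) := fun h => hM1 (hfpf M hM h)
    obtain ⟨⟨w, hw⟩, hwo⟩ := exists_prime_orderOf_dvd_card' (G := M) 2
      (even_iff_two_dvd.1 (Nat.not_odd_iff_even.1 heven))
    rw [Subgroup.orderOf_mk] at hwo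
    intro u hu
    by_cases hu1 : u = 1
    · rw [hu1]; exact M.one_mem
    obtain ⟨g, rfl⟩ := isConj_iff.1 ((hconj w hwo).symm.trans (hconj u (hUo u hu hu1)))
    exact hM.conj_mem w hw g
  by_contra hMtop
  let PM : Sylow 2 M := P.subtype (hPU ▸ hUM)
  have hsup : normalizer (U : Set K) ⊔ M = ⊤ := by
    have h := Sylow.normalizer_sup_eq_top PM
    have e : (PM : Subgroup M).map M.subtype = U := by
      rw [Sylow.coe_subtype, subgroupOf_map_subtype, hPU, inf_eq_left.2 hUM]
    rwa [e] at h
  have hNM : ¬ N ≤ M := fun h => hMtop (by rwa [sup_eq_right.2 h] at hsup)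
  have hNMU : N ⊓ M = U := by
    refine (Subgroup.eq_of_le_of_card_ge (le_inf hUN hUM) ?_).symm
    have h1 : Nat.card (N ⊓ M : Subgroup K) ∣ 12 := hN12 ▸ card_dvd_of_le inf_le_left
    have h2 : 4 ∣ Nat.card (N ⊓ M : Subgroup K) := hU4 ▸ card_dvd_of_le (le_inf hUN hUM)
    have h3 : Nat.card (N ⊓ M : Subgroup K) ≠ 12 := fun e =>
      hNM (Subgroup.eq_of_le_of_card_ge (inf_le_left : N ⊓ M ≤ N) (by rw [e, hN12]) ▸ inf_le_right)
    obtain ⟨a, ha⟩ := h2
    have h4 := Nat.le_of_dvd (by norm_num) h1
    rw [hU4]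
    by_contra hlt
    push Not at hlt
    have h5 : a ≤ 3 := by omega
    interval_cases a <;> rw [ha] at h1 <;> norm_num at h1 <;> omega
  have hMO : Cfsg.oddCore M = ⊥ := by
    have h1 : (Cfsg.oddCore M).map M.subtype = ⊥ := by
      refine hfpf _ inferInstance ?_
      rw [card_map_of_injective M.subtype_injective]
      exact Cores.oddCore_odd
    rwa [Subgroup.map_eq_bot_iff_of_injective _ M.subtype_injective] at h1
  have htop := exists_complement PM (fun n hn => by
    refine mem_centralizer_iff.2 fun u hu => ?_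
    have hnN : (n : K) ∈ N := by
      have h := le_normalizer_map M.subtype ⟨n, hn, rfl⟩
      rwa [Sylow.coe_subtype, subgroupOf_map_subtype, hPU, inf_eq_left.2 hUM] at h
    have hnU : (n : K) ∈ U := hNMU ▸ ⟨hnN, n.2⟩
    have huU : (u : K) ∈ U := hPU ▸ hu
    exact Subtype.ext (mem_centralizer_iff.1 (hUcomm hnU) u huU)) hMO
  refine hUn (?_ : U.Normal)
  have : M = U := le_antisymm (fun x hx => by
    have : (⟨x, hx⟩ : M) ∈ (PM : Subgroup M) := htop ▸ mem_top _
    exact hPU ▸ this) hUM
  exact this ▸ hM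

end Cfsg.Agent.Techniques.DihedralEight.Four
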